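import Groth.Agent.UnivOpenSectLib.Core
import Groth.Agent.AICCover.Finite
import Groth.Agent.S1376

/-!
# Local sections of universally open morphisms over finite covers
-/

set_option autoImplicit false
set_option linter.style.haveILetI false
set_option backward.isDefEq.respectTransparency false
set_option maxHeartbeats 800000

universe u

open CategoryTheory CategoryTheory.Limits AlgebraicGeometry

namespace Groth.Agent.UnivOpenSectLib

/-- A surjective universally open morphism to an affine scheme is covered by an affine one. -/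
theorem exists_affine_univOpen {U X : Scheme.{u}} [IsAffine U] (f : X ⟶ U) [UniversallyOpen f]
    [LocallyOfFinitePresentation f] [Surjective f] :
    ∃ (T : Scheme.{u}) (k : T ⟶ X), IsAffine T ∧ UniversallyOpen (k ≫ f) ∧
      LocallyOfFinitePresentation (k ≫ f) ∧ Surjective (k ≫ f) := by
  classical
  let 𝒰 := X.affineCover
  obtain ⟨t, ht⟩ := (isCompact_univ : IsCompact (Set.univ : Set U)).elim_finite_subcover
    (fun i => Set.range (𝒰.f i ≫ f)) (fun i => (𝒰.f i ≫ f).isOpenMap.isOpen_range) (fun y _ => by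
      obtain ⟨x, rfl⟩ := f.surjective y
      obtain ⟨z, hz⟩ := 𝒰.covers x
      exact Set.mem_iUnion.2 ⟨𝒰.idx x, z, by rw [Scheme.Hom.comp_apply, hz]⟩)
  let W : {i // i ∈ t} → Scheme.{u} := fun i => 𝒰.X i.1
  let a : ∀ i, W i ⟶ X := fun i => 𝒰.f i.1
  let g : ∀ i, W i ⟶ U := fun i => a i ≫ f
  haveI : ∀ i, UniversallyOpen (g i) := fun i => inferInstanceAs (UniversallyOpen (𝒰.f i.1 ≫ f))
  haveI : ∀ i, LocallyOfFinitePresentation (g i) := fun i =>
    inferInstanceAs (LocallyOfFinitePresentation (𝒰.f i.1 ≫ f))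
  haveI : ∀ i, IsAffine (W i) := fun i => inferInstanceAs (IsAffine (𝒰.X i.1))
  let k : ∐ W ⟶ X := Limits.Sigma.desc a
  have hk : k ≫ f = Limits.Sigma.desc g :=
    Limits.Sigma.hom_ext _ _ fun i => by rw [Limits.Sigma.ι_desc_assoc, Limits.Sigma.ι_desc]
  refine ⟨∐ W, k, inferInstance, ?_, ?_, ?_⟩
  · rw [hk]; exact IsZariskiLocalAtSource.sigmaDesc (P := @UniversallyOpen) fun i => inferInstance
  · rw [hk]; exact IsZariskiLocalAtSource.sigmaDesc (P := @LocallyOfFinitePresentation) fun i => inferInstance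
  · rw [hk]
    refine Surjective.sigmaDesc_of_union_range_eq_univ (f := g) (Set.eq_univ_iff_forall.2 fun y => ?_)
    obtain ⟨i, hi, hy⟩ := Set.mem_iUnion₂.1 (ht (Set.mem_univ y))
    exact Set.mem_iUnion.2 ⟨⟨i, hi⟩, hy⟩

/-- A universally open cover of an affine scheme splits Zariski locally on a finite cover. -/
theorem exists_finite_splitting {U X : Scheme.{u}} [IsAffine U] (f : X ⟶ U) [UniversallyOpen f]
    [LocallyOfFinitePresentation f] [Surjective f] :
    ∃ (P : Scheme.{u}) (π : P ⟶ U), IsFinite π ∧ Surjective π ∧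
      ∀ x : P, ∃ (V : P.Opens) (r : V.toScheme ⟶ X), x ∈ V ∧ r ≫ f = V.ι ≫ π := by
  classical
  obtain ⟨T, k, hT, huo, hfp, hsu⟩ := exists_affine_univOpen f
  obtain ⟨ψ, hψ⟩ := Spec.homEquiv.symm.surjective (T.isoSpec.inv ≫ (k ≫ f) ≫ U.isoSpec.hom)
  have hψ' : Spec.map ψ = T.isoSpec.inv ≫ (k ≫ f) ≫ U.isoSpec.hom := hψ
  letI : Algebra Γ(U, ⊤) Γ(T, ⊤) := ψ.hom.toAlgebra
  haveI : Algebra.FinitePresentation Γ(U, ⊤) Γ(T, ⊤) :=
    (HasRingHomProperty.Spec_iff (P := @LocallyOfFinitePresentation) (φ := ψ)).1 (by rw [hψ']; infer_instance)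
  have hmap : CommRingCat.ofHom (algebraMap Γ(U, ⊤) Γ(T, ⊤)) = ψ := rfl
  haveI : UniversallyOpen (Spec.map (CommRingCat.ofHom (algebraMap Γ(U, ⊤) Γ(T, ⊤)))) := by
    rw [hmap, hψ']; infer_instance
  haveI : Surjective (Spec.map (CommRingCat.ofHom (algebraMap Γ(U, ⊤) Γ(T, ⊤)))) := by
    rw [hmap, hψ']; infer_instance
  let K : PrimeSpectrum Γ(U, ⊤) → Type u := fun p => AlgebraicClosure p.asIdeal.ResidueField
  let C₀ := AICCover.C (A := Γ(U, ⊤)) K
  have hsur : Function.Surjective (PrimeSpectrum.comap (algebraMap Γ(U, ⊤) C₀)) :=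
    AICCover.comap_surjective K fun p => ⟨p, by
      rw [IsScalarTower.algebraMap_eq Γ(U, ⊤) p.asIdeal.ResidueField (K p), ← RingHom.comap_ker,
        (RingHom.injective_iff_ker_eq_bot _).1 (algebraMap p.asIdeal.ResidueField (K p)).injective]
      exact Ideal.ker_algebraMap_residueField p.asIdeal⟩
  obtain ⟨C', _, _, s, hfin, hsur', hspan, hs⟩ :=
    AICCover.exists_finite_of_integral (C := C₀) hsur (fun _ : PUnit.{u+1} => Γ(T, ⊤)) (fun q => by
      haveI := AICCover.isDomain_localization K q.asIdeal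
      obtain ⟨a, ha, hφ⟩ := exists_local_section (R := Γ(U, ⊤)) (AICCover.monicRoot_C K) Γ(T, ⊤) q.asIdeal
      exact ⟨a, ⟨⟩, ha, hφ⟩)
  refine ⟨Spec (CommRingCat.of C'), Spec.map (CommRingCat.ofHom (algebraMap Γ(U, ⊤) C')) ≫ U.isoSpec.inv,
    ?_, ?_, fun x => ?_⟩
  · haveI : IsFinite (Spec.map (CommRingCat.ofHom (algebraMap Γ(U, ⊤) C'))) :=
      (IsFinite.SpecMap_iff _).2 (RingHom.finite_algebraMap.2 hfin)
    infer_instance
  · haveI : Surjective (Spec.map (CommRingCat.ofHom (algebraMap Γ(U, ⊤) C'))) := ⟨hsur'⟩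
    infer_instance
  obtain ⟨a, ha, hax⟩ : ∃ a ∈ s, a ∉ (x : PrimeSpectrum C').asIdeal := by
    by_contra hall
    push Not at hall
    exact x.isPrime.ne_top (top_le_iff.1 (hspan.ge.trans (Ideal.span_le.2 hall)))
  obtain ⟨-, ⟨φ⟩⟩ := hs a ha
  let j : Spec (CommRingCat.of (Localization.Away a)) ⟶ Spec (CommRingCat.of C') :=
    Spec.map (CommRingCat.ofHom (algebraMap C' (Localization.Away a)))
  haveI : IsOpenImmersion j := IsOpenImmersion.of_isLocalization a
  let r : Spec (CommRingCat.of (Localization.Away a)) ⟶ X :=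
    Spec.map (CommRingCat.ofHom φ.toRingHom) ≫ T.isoSpec.inv ≫ k
  have hr : r ≫ f = j ≫ Spec.map (CommRingCat.ofHom (algebraMap Γ(U, ⊤) C')) ≫ U.isoSpec.inv := by
    have h1 : (T.isoSpec.inv ≫ k) ≫ f = Spec.map ψ ≫ U.isoSpec.inv := by rw [hψ']; simp
    rw [Category.assoc, h1, ← Spec.map_comp_assoc, ← Spec.map_comp_assoc]
    congr 2
    ext y
    exact (φ.commutes y).trans (IsScalarTower.algebraMap_apply Γ(U, ⊤) C' _ y)
  refine ⟨j.opensRange, j.isoOpensRange.inv ≫ r, ?_, ?_⟩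
  · show x ∈ Set.range (PrimeSpectrum.comap (algebraMap C' (Localization.Away a)))
    rw [PrimeSpectrum.localization_away_comap_range _ a]
    exact hax
  · rw [Category.assoc, hr, ← Category.assoc, Scheme.Hom.isoOpensRange_inv_comp]

/-- A universally open cover of a quasi-compact quasi-separated scheme splits Zariski locally on a
finite cover. -/
theorem exists_finite_splitting_qcqs {Y X : Scheme.{u}} [CompactSpace Y] [QuasiSeparatedSpace Y] (f : X ⟶ Y)
    [UniversallyOpen f] [LocallyOfFinitePresentation f] [Surjective f] :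
    ∃ (Y' : Scheme.{u}) (g : Y' ⟶ Y), IsFinite g ∧ Surjective g ∧
      ∀ y' : Y', ∃ (V : Y'.Opens) (r : V.toScheme ⟶ X), y' ∈ V ∧ r ≫ f = V.ι ≫ g := by
  classical
  obtain ⟨t, ht⟩ := (isCompact_univ : IsCompact (Set.univ : Set Y)).elim_finite_subcover
    (fun U : Y.affineOpens => (U.1 : Set Y)) (fun U => U.1.isOpen) (fun y _ => by
      obtain ⟨U, hU, hy, -⟩ := exists_isAffineOpen_mem_and_subset (X := Y) (x := y) (U := ⊤) trivial
      exact Set.mem_iUnion.2 ⟨⟨U, hU⟩, hy⟩)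
  suffices H : ∀ s : Finset Y.affineOpens, ∃ (Y' : Scheme.{u}) (g : Y' ⟶ Y), IsFinite g ∧ Surjective g ∧
      ∀ y' : Y', (∃ U ∈ s, g y' ∈ U.1) → ∃ (V : Y'.Opens) (r : V.toScheme ⟶ X), y' ∈ V ∧ r ≫ f = V.ι ≫ g by
    obtain ⟨Y', g, h1, h2, h3⟩ := H t
    refine ⟨Y', g, h1, h2, fun y' => h3 y' ?_⟩
    obtain ⟨U, hU, hy⟩ := Set.mem_iUnion₂.1 (ht (Set.mem_univ (g y')))
    exact ⟨U, hU, hy⟩
  intro s
  induction s using Finset.induction_on with
  | empty => exact ⟨Y, 𝟙 Y, inferInstance, inferInstance, by simp⟩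
  | insert a s _ ih =>
    obtain ⟨Y₁, g₁, hg₁, hg₁s, h₁⟩ := ih
    haveI : IsAffine a.1.toScheme := a.2
    haveI : UniversallyOpen (f ∣_ a.1) := IsZariskiLocalAtTarget.restrict ‹_› _
    haveI : LocallyOfFinitePresentation (f ∣_ a.1) := IsZariskiLocalAtTarget.restrict ‹_› _
    haveI : Surjective (f ∣_ a.1) := IsZariskiLocalAtTarget.restrict ‹_› _
    obtain ⟨P, π, hπ, hπs, hP⟩ := exists_finite_splitting (f ∣_ a.1)
    obtain ⟨Y₂, g₂, i, hg₂s, hg₂, sq⟩ := Groth.Agent.S1376.result a.1 a.2.isCompact π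
    haveI : IsFinite (pullback.fst g₁ g₂) := MorphismProperty.pullback_fst _ _ hg₂
    haveI : Surjective (pullback.fst g₁ g₂) := MorphismProperty.pullback_fst _ _ hg₂s
    refine ⟨pullback g₁ g₂, pullback.fst g₁ g₂ ≫ g₁, inferInstance, inferInstance, ?_⟩
    rintro y ⟨U, hU, hyU⟩
    rw [Scheme.Hom.comp_apply] at hyU
    rcases Finset.mem_insert.1 hU with rfl | hU
    · haveI : IsOpenImmersion i := MorphismProperty.of_isPullback (P := @IsOpenImmersion) sq.flip inferInstance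
      have hy₂ : g₂ (pullback.snd g₁ g₂ y) ∈ U.1 := by
        rw [← Scheme.Hom.comp_apply, ← pullback.condition, Scheme.Hom.comp_apply]
        exact hyU
      obtain ⟨p, hp, -⟩ := Scheme.exists_preimage_of_isPullback sq (pullback.snd g₁ g₂ y)
        (⟨_, hy₂⟩ : U.1.toScheme) rfl
      obtain ⟨W, r, hpW, hr⟩ := hP p
      let V := pullback.snd g₁ g₂ ⁻¹ᵁ (W.ι ≫ i).opensRange
      let l : V.toScheme ⟶ W.toScheme := IsOpenImmersion.lift (W.ι ≫ i) (V.ι ≫ pullback.snd g₁ g₂) (by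
        rintro _ ⟨z, rfl⟩; exact z.2)
      have hl : l ≫ W.ι ≫ i = V.ι ≫ pullback.snd g₁ g₂ := IsOpenImmersion.lift_fac _ _ _
      refine ⟨V, l ≫ r ≫ (f ⁻¹ᵁ U.1).ι, ⟨⟨p, hpW⟩, hp⟩, ?_⟩
      simp only [Category.assoc]
      rw [← morphismRestrict_ι, reassoc_of% hr, ← sq.w, reassoc_of% hl, pullback.condition]
    · obtain ⟨W, r, hW, hr⟩ := h₁ (pullback.fst g₁ g₂ y) ⟨U, hU, hyU⟩
      let V := pullback.fst g₁ g₂ ⁻¹ᵁ W
      refine ⟨V, (pullback.fst g₁ g₂ ∣_ W) ≫ r, hW, ?_⟩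
      rw [Category.assoc, hr, morphismRestrict_ι_assoc]

end Groth.Agent.UnivOpenSectLib
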