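import Groth.Agent.OpenDim.Dominate
import Groth.Agent.QuasiSecLib.Criterion
import Groth.Agent.AICCover.Ring

/-!
# Sections of universally open algebras over local domains with roots
-/

set_option autoImplicit false
set_option linter.style.haveILetI false
set_option backward.isDefEq.respectTransparency false

universe u

open CategoryTheory AlgebraicGeometry IsLocalRing TensorProduct

namespace Groth.Agent.UnivOpenSectLib

open Groth.Agent.DimFormulaLib Groth.Agent.OpenDim

variable {D : Type u} [CommRing D] [IsDomain D] [IsLocalRing D]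

/-- Over a local domain with roots a quasi-finite domain dominating it, with nonempty closed fibre, is trivial. -/
theorem bijective_of_quasiFinite {E : Type u} [CommRing E] [IsDomain E] [Algebra D E] [Algebra.FiniteType D E]
    [Algebra.QuasiFinite D E] (h : AICCover.MonicRoot D) (hinj : Function.Injective (algebraMap D E))
    (Q : Ideal E) [Q.IsPrime] (hQ : Q.comap (algebraMap D E) = maximalIdeal D) :
    Function.Bijective (algebraMap D E) := by
  refine ⟨hinj, ?_⟩
  obtain ⟨r, hr, hri, hx⟩ := Algebra.zariskisMainProperty_iff.1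
    (Algebra.ZariskisMainProperty.of_finiteType_of_weaklyQuasiFiniteAt (R := D) Q)
  obtain ⟨d, rfl⟩ := h.mem_range hri
  have hd : IsUnit d := by
    by_contra hd
    exact hr (show d ∈ Q.comap (algebraMap D E) by rw [hQ]; exact hd)
  intro z
  obtain ⟨m, hm⟩ := hx z
  obtain ⟨d', hd'⟩ := h.mem_range hm
  refine ⟨↑(hd.pow m).unit⁻¹ * d', ?_⟩
  rw [map_mul, hd', ← map_pow, ← mul_assoc, ← map_mul, IsUnit.val_inv_mul, map_one, one_mul]

/-- Over a local domain with roots, a universally open algebra with nonempty closed fibre has a section. -/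
theorem exists_section {B : Type u} [CommRing B] [Algebra D B] [Algebra.FiniteType D B]
    [UniversallyOpen (Spec.map (CommRingCat.ofHom (algebraMap D B)))] (h : AICCover.MonicRoot D)
    (q : Ideal B) [q.IsPrime] (hq : q.comap (algebraMap D B) = maximalIdeal D) :
    Nonempty (B →ₐ[D] D) := by
  obtain ⟨M, hM, hqM⟩ := Ideal.exists_le_maximal q ‹q.IsPrime›.ne_top
  have hMm : M.comap (algebraMap D B) = maximalIdeal D :=
    ((maximalIdeal.isMaximal D).eq_of_le (Ideal.comap_ne_top _ hM.ne_top)
      (hq ▸ Ideal.comap_mono hqM)).symm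
  let x : PrimeSpectrum B := ⟨M, hM.isPrime⟩
  let f := Spec.map (CommRingCat.ofHom (algebraMap D B))
  haveI : LocallyOfFiniteType f :=
    HasRingHomProperty.Spec_iff.2 (RingHom.finiteType_algebraMap.2 ‹_›)
  let c : Chart f x :=
    { A := D, B := B, i := 𝟙 _, j := 𝟙 _, w := by simp [f], q := x, hq := rfl }
  have htrd : ∀ (w : PrimeSpectrum B),
      Algebra.trdeg (D ⧸ (PrimeSpectrum.comap (algebraMap D B) w).asIdeal) (B ⧸ w.asIdeal) = trd f w :=
    fun w => (c.resTrdegAt_eq w).symm.trans (resTrdegAt_eq_trd f w)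
  obtain ⟨ζ, hfζ, hζx, -, hζdim⟩ := exists_maxInFibre_fibreDimAt f x
  let η : PrimeSpectrum D := ⟨⊥, Ideal.isPrime_bot⟩
  obtain ⟨z, hzζ, hfz, hle⟩ := exists_generization_of_univOpenAt f ζ
    (UnivOpenAtLib.universallyOpen_iff_forall.1 inferInstance ζ) η
    ((PrimeSpectrum.le_iff_specializes η _).1 bot_le)
  let z' : PrimeSpectrum B := z
  have hzx : z' ≤ x := (PrimeSpectrum.le_iff_specializes z' x).2 (hzζ.trans hζx)
  obtain ⟨q', g, -, hq'x, hgx, hq'η, hqf⟩ := QuasiSecLib.exists_quasi_section (A := D) z' x hzx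
    (trd f z') (htrd z') (fun w _ hxw => PrimeSpectrum.ext (hM.eq_of_le w.isPrime.ne_top hxw).symm)
    fun w t hw hwx ht => by
      have h1 : t = trd f w := by exact_mod_cast ht.symm.trans (htrd w)
      rw [h1]
      refine le_trans ?_ hle
      have h2 := trd_le_fibreDimAt f (x := x) (z := w) hw ((PrimeSpectrum.le_iff_specializes _ _).1 hwx)
      rw [hζdim] at h2
      exact_mod_cast h2
  let C := B ⧸ q'.asIdeal
  let gb : C := Ideal.Quotient.mk q'.asIdeal g
  let E := Localization.Away gb
  have hgb : gb ≠ 0 := fun h0 => hgx (hq'x (Ideal.Quotient.eq_zero_iff_mem.1 h0))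
  haveI : IsDomain E := IsLocalization.isDomain_localization (powers_le_nonZeroDivisors_of_noZeroDivisors hgb)
  haveI : Algebra.QuasiFinite D E := hqf
  haveI : Algebra.FiniteType D C := Algebra.FiniteType.trans (inferInstance : Algebra.FiniteType D B) inferInstance
  haveI : Algebra.FiniteType D E := Algebra.FiniteType.trans (inferInstance : Algebra.FiniteType D C) inferInstance
  haveI hprime : (M.map (Ideal.Quotient.mk q'.asIdeal)).IsPrime :=
    Ideal.map_isPrime_of_surjective Ideal.Quotient.mk_surjective (by rw [Ideal.mk_ker]; exact hq'x)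
  have hcomap : (M.map (Ideal.Quotient.mk q'.asIdeal)).comap (Ideal.Quotient.mk q'.asIdeal) = M := by
    rw [Ideal.comap_map_of_surjective _ Ideal.Quotient.mk_surjective, ← RingHom.ker_eq_comap_bot, Ideal.mk_ker]
    exact sup_eq_left.2 hq'x
  obtain ⟨Q, hQ⟩ := (PrimeSpectrum.localization_away_comap_range E gb).ge
    (show (⟨_, hprime⟩ : PrimeSpectrum C) ∈ (PrimeSpectrum.basicOpen gb : Set (PrimeSpectrum C)) from
      fun h0 => hgx (hcomap.le h0))
  have hCE : Function.Injective (algebraMap C E) :=
    IsLocalization.injective E (powers_le_nonZeroDivisors_of_noZeroDivisors hgb)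
  have hbij := bijective_of_quasiFinite (E := E) h ((injective_iff_map_eq_zero _).2 fun d hd => by
      rw [IsScalarTower.algebraMap_apply D C E] at hd
      have h1 : algebraMap D C d = 0 := hCE (hd.trans (map_zero _).symm)
      have h2 : algebraMap D B d ∈ q'.asIdeal := Ideal.Quotient.eq_zero_iff_mem.1 h1
      have h3 : d ∈ (PrimeSpectrum.comap (algebraMap D B) q').asIdeal := h2
      rw [hq'η, show PrimeSpectrum.comap (algebraMap D B) z' = η from hfz] at h3
      exact h3) Q.asIdeal (by
      rw [IsScalarTower.algebraMap_eq D C E, ← Ideal.comap_comap, show Q.asIdeal.comap (algebraMap C E) =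
        M.map (Ideal.Quotient.mk q'.asIdeal) from congrArg PrimeSpectrum.asIdeal hQ,
        IsScalarTower.algebraMap_eq D B C, ← Ideal.comap_comap, Ideal.Quotient.algebraMap_eq, hcomap, hMm])
  exact ⟨(AlgEquiv.ofBijective (Algebra.ofId D E) hbij).symm.toAlgHom.comp
    ((IsScalarTower.toAlgHom D C E).comp (Ideal.Quotient.mkₐ D q'.asIdeal))⟩

/-- Universally open algebras have sections Zariski locally on a ring with roots whose local rings are
domains. -/
theorem exists_local_section {R C : Type u} [CommRing R] [CommRing C] [Algebra R C] (h : AICCover.MonicRoot C)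
    (B : Type u) [CommRing B] [Algebra R B] [Algebra.FinitePresentation R B]
    [UniversallyOpen (Spec.map (CommRingCat.ofHom (algebraMap R B)))]
    [Surjective (Spec.map (CommRingCat.ofHom (algebraMap R B)))]
    (q : Ideal C) [q.IsPrime] [IsDomain (Localization.AtPrime q)] :
    ∃ g ∉ q, Nonempty (B →ₐ[R] Localization.Away g) := by
  let D := Localization.AtPrime q
  have sq : IsPullback
      (Spec.map (CommRingCat.ofHom (Algebra.TensorProduct.includeRight : B →ₐ[R] D ⊗[R] B).toRingHom))
      (Spec.map (CommRingCat.ofHom (algebraMap D (D ⊗[R] B)))) (Spec.map (CommRingCat.ofHom (algebraMap R B)))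
      (Spec.map (CommRingCat.ofHom (algebraMap R D))) :=
    (isPullback_SpecMap_of_isPushout _ _ _ _ (CommRingCat.isPushout_tensorProduct R D B)).flip
  haveI : UniversallyOpen (Spec.map (CommRingCat.ofHom (algebraMap D (D ⊗[R] B)))) :=
    MorphismProperty.of_isPullback (P := @UniversallyOpen) sq ‹_›
  haveI : Surjective (Spec.map (CommRingCat.ofHom (algebraMap D (D ⊗[R] B)))) :=
    MorphismProperty.of_isPullback (P := @Surjective) sq ‹_›
  obtain ⟨Q, hQ⟩ := Scheme.Hom.surjective (Spec.map (CommRingCat.ofHom (algebraMap D (D ⊗[R] B)))) (closedPoint D)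
  obtain ⟨s⟩ := exists_section (B := D ⊗[R] B) (h.of_isLocalization q.primeCompl) (Q : PrimeSpectrum _).asIdeal
    (congrArg PrimeSpectrum.asIdeal hQ)
  obtain ⟨g, hg, φ, -⟩ := SpreadLib.exists_lift_away (R := R) q
    ((s.restrictScalars R).comp Algebra.TensorProduct.includeRight)
  exact ⟨g, hg, ⟨φ⟩⟩

end Groth.Agent.UnivOpenSectLib
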